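import Cfsg.Agent.H152.QA.Defs
import Cfsg.Agent.H80.Fpf.Mult
import Cfsg.Agent.H80.Fpf.Lift

/-!
# S4979, layer (A), tools [A-T1] (helper724)

Unions of fixed spaces, lifting of `p`-subgroups, the dimension of `V`.
-/

set_option autoImplicit false

open Cfsg

namespace Cfsg.Agent.H724.QA

open Cfsg.Agent.H80.Fpf Cfsg.Agent.H152.QA

section
variable {p q : ℕ} {L V S : Type} [Group L] [Finite L] [AddCommGroup V] [Finite V] [DistribMulAction L V]
  [Group S] [Finite S] [IsSimpleGroup S] {π : L →* S} {N : Subgroup L} {φ : N →* ℂˣ}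

omit [Finite V] [Finite L] in
/-- the normalizer acts on the fixed points -/
theorem smul_mem_fixV {X : Subgroup L} {n : L} (hn : n ∈ Subgroup.normalizer (X : Set L)) {v : V}
    (hv : v ∈ fixV L V X) : n • v ∈ fixV L V X := by
  rw [mem_fixV] at hv ⊢
  intro g hg
  have h1 : n⁻¹ * g * n ∈ X := by
    have h2 := (Subgroup.mem_normalizer_iff.1 (inv_mem hn) g).1 hg
    rwa [inv_inv] at h2
  have h3 := hv _ h1
  rw [smul_smul]
  have h4 : g * n = n * (n⁻¹ * g * n) := by group
  rw [h4, mul_smul, h3]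

/-- every vector is fixed by a conjugate of the `p`-subgroup `X`: `|V| ≤ |L : N_L(X)| |C_V(X)|` -/
theorem Sit.card_le (h : Sit (V := V) p q N φ) (X : Subgroup L) (hX : IsPGroup p X) :
    Nat.card V ≤ (Subgroup.normalizer (X : Set L)).index * Nat.card (fixV L V X) := by
  classical
  have hp : Fact p.Prime := ⟨h.hp⟩
  -- every vector is moved into the fixed space
  have key : ∀ v : V, ∃ g : L, g • v ∈ fixV L V X := by
    intro v
    have h1 : ¬ p ∣ Nat.card (MulAction.orbit L v) := by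
      rw [Nat.card_congr (MulAction.orbitEquivQuotientStabilizer L v)]
      exact h.P1 v
    obtain ⟨w, hw⟩ := hX.nonempty_fixed_point_of_prime_not_dvd_card (MulAction.orbit L v) h1
    obtain ⟨g, hg⟩ := w.2
    refine ⟨g, ?_⟩
    rw [mem_fixV]
    intro x hx
    have h2 := congrArg Subtype.val (MulAction.mem_fixedPoints.1 hw ⟨x, hx⟩)
    have h3 : x • (w : V) = (w : V) := h2
    rw [← hg] at h3
    exact h3
  let f : (L ⧸ Subgroup.normalizer (X : Set L)) × (fixV L V X) → V := fun y => y.1.out • (y.2 : V)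
  have hf : Function.Surjective f := by
    intro v
    obtain ⟨g, hg⟩ := key v
    set c : L ⧸ Subgroup.normalizer (X : Set L) := QuotientGroup.mk g⁻¹ with hc
    have h1 : c.out⁻¹ * g⁻¹ ∈ Subgroup.normalizer (X : Set L) := by
      rw [← QuotientGroup.eq, QuotientGroup.out_eq']
    refine ⟨(c, ⟨(c.out⁻¹ * g⁻¹) • (g • v), smul_mem_fixV h1 hg⟩), ?_⟩
    change c.out • ((c.out⁻¹ * g⁻¹) • (g • v)) = v
    rw [smul_smul, smul_smul]
    have h2 : c.out * (c.out⁻¹ * g⁻¹) * g = 1 := by group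
    rw [h2, one_smul]
  have h1 := Nat.card_le_card_of_surjective f hf
  rw [Nat.card_prod] at h1
  exact h1

omit [Finite L] [AddCommGroup V] [Finite V] [DistribMulAction L V] [Finite S] [IsSimpleGroup S] in
/-- a `p`-element in the kernel is trivial -/
theorem eq_one_of_ker (hp : p.Prime) (hk : ¬ p ∣ Nat.card π.ker) {z : L} (hz : z ∈ π.ker) {k : ℕ} (hz' : z ^ p ^ k = 1) :
    z = 1 := by
  have h1 : orderOf (⟨z, hz⟩ : π.ker) ∣ Nat.card π.ker := orderOf_dvd_natCard _
  rw [Subgroup.orderOf_mk] at h1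
  have h2 := orderOf_dvd_of_pow_eq_one hz'
  obtain ⟨j, -, hj⟩ := (Nat.dvd_prime_pow hp).1 h2
  rcases Nat.eq_zero_or_pos j with h3 | h3
  · rw [h3, pow_zero] at hj
    exact orderOf_eq_one_iff.1 hj
  · exfalso
    apply hk
    rw [hj] at h1
    exact dvd_trans (dvd_pow_self p h3.ne') h1

omit [Finite S] [IsSimpleGroup S] in
theorem Sit.not_dvd_ker (h : Sit (V := V) p q N φ) (hπ : IsCover π) : ¬ p ∣ Nat.card π.ker :=
  fun h1 => h.pZ (h1.trans (Subgroup.card_dvd_of_le hπ.central))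

/-- the same in `S`: `X` is the image of a `p`-subgroup of `L`; the index of the normalizer is that in `S` -/
theorem Sit.index_normalizer (h : Sit (V := V) p q N φ) (hπ : IsCover π) (X : Subgroup L) (hX : IsPGroup p X) :
    (Subgroup.normalizer (X : Set L)).index = (Subgroup.normalizer ((X.map π : Subgroup S) : Set S)).index := by
  classical
  have hk := Sit.not_dvd_ker h hπ
  rw [← Subgroup.index_comap_of_surjective _ hπ.surj]
  congr 1
  have key : ∀ g ∈ (Subgroup.normalizer ((X.map π : Subgroup S) : Set S)).comap π, ∀ x ∈ X, g * x * g⁻¹ ∈ X := by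
    intro g hg x hx
    rw [Subgroup.mem_comap] at hg
    have h1 : π x ∈ X.map π := Subgroup.mem_map_of_mem π hx
    have h2 := (Subgroup.mem_normalizer_iff.1 hg (π x)).1 h1
    obtain ⟨x', hx', hxx⟩ := h2
    have hz : x'⁻¹ * (g * x * g⁻¹) ∈ π.ker := by
      rw [MonoidHom.mem_ker, map_mul, map_inv, hxx, map_mul, map_mul, map_inv, inv_mul_cancel]
    set z := x'⁻¹ * (g * x * g⁻¹) with hzdef
    have hzc := Subgroup.mem_center_iff.1 (hπ.central hz)
    obtain ⟨a, ha⟩ := hX ⟨x, hx⟩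
    obtain ⟨b, hb⟩ := hX ⟨x', hx'⟩
    have ha' : x ^ p ^ a = 1 := congrArg Subtype.val ha
    have hb' : x' ^ p ^ b = 1 := congrArg Subtype.val hb
    have h3 : x' * z = g * x * g⁻¹ := by rw [hzdef, mul_inv_cancel_left]
    have h4 : (x' * z) ^ p ^ (a + b) = 1 := by
      rw [h3, conj_pow, pow_add, pow_mul, ha', one_pow, mul_one, mul_inv_cancel]
    have h5 : z ^ p ^ (a + b) = 1 := by
      rw [(show Commute x' z from hzc x').mul_pow, add_comm, pow_add, pow_mul, hb', one_pow, one_mul, ← pow_add] at h4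
      rw [add_comm]; exact h4
    have h6 := eq_one_of_ker h.hp hk hz h5
    rw [h6, mul_one] at h3
    rw [← h3]; exact hx'
  ext g
  constructor
  · intro hg
    rw [Subgroup.mem_comap, Subgroup.mem_normalizer_iff]
    intro s
    constructor
    · rintro ⟨x, hx, rfl⟩
      exact ⟨g * x * g⁻¹, (Subgroup.mem_normalizer_iff.1 hg x).1 hx, by simp⟩
    · rintro ⟨x, hx, hxs⟩
      refine ⟨g⁻¹ * x * g, ?_, ?_⟩
      · have h2 := (Subgroup.mem_normalizer_iff.1 (inv_mem hg) x).1 hx
        rwa [inv_inv] at h2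
      · rw [map_mul, map_mul, map_inv, hxs]; group
  · intro hg
    rw [Subgroup.mem_normalizer_iff]
    intro x
    refine ⟨fun hx => key g hg x hx, fun hx => ?_⟩
    have h2 := key g⁻¹ (inv_mem hg) _ hx
    have h3 : g⁻¹ * (g * x * g⁻¹) * g⁻¹⁻¹ = x := by group
    rwa [h3] at h2

/-- `p`-subgroups of `S` lift -/
theorem Sit.exists_lift (h : Sit (V := V) p q N φ) (hπ : IsCover π) (Y : Subgroup S) (hY : IsPGroup p Y) :
    ∃ X : Subgroup L, IsPGroup p X ∧ X.map π = Y ∧ Nat.card X = Nat.card Y := by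
  classical
  have hp : Fact p.Prime := ⟨h.hp⟩
  have hk := Sit.not_dvd_ker h hπ
  let f : ↥(Y.comap π) →* ↥Y := π.subgroupComap Y
  have hf : Function.Surjective f := π.subgroupComap_surjective_of_surjective Y hπ.surj
  obtain ⟨P⟩ : Nonempty (Sylow p ↥(Y.comap π)) := inferInstance
  let Q := P.mapSurjective hf
  have hQ : (Q : Subgroup ↥Y) = ⊤ := by
    have h1 : IsPGroup p (⊤ : Subgroup ↥Y) := hY.of_equiv Subgroup.topEquiv.symm
    exact (Q.3 h1 le_top).symm
  have hX : IsPGroup p ((P : Subgroup ↥(Y.comap π)).map (Y.comap π).subtype) := P.2.map _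
  have hmap : ((P : Subgroup ↥(Y.comap π)).map (Y.comap π).subtype).map π = Y := by
    have h1 : ((P : Subgroup ↥(Y.comap π)).map f).map Y.subtype = Y := by
      have h2 : (Q : Subgroup ↥Y) = (P : Subgroup ↥(Y.comap π)).map f := rfl
      rw [← h2, hQ, ← MonoidHom.range_eq_map, Subgroup.range_subtype]
    rw [Subgroup.map_map] at h1 ⊢
    exact h1
  refine ⟨_, hX, hmap, ?_⟩
  set X := (P : Subgroup ↥(Y.comap π)).map (Y.comap π).subtype with hXdef
  have hinj : Function.Injective (π.comp X.subtype) := by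
    rw [injective_iff_map_eq_one]
    intro x hx
    obtain ⟨a, ha⟩ := hX x
    exact Subtype.ext (eq_one_of_ker h.hp hk (z := (x : L)) hx (congrArg Subtype.val ha))
  have hr : (π.comp X.subtype).range = Y := by
    rw [MonoidHom.range_comp, Subgroup.range_subtype, hmap]
  rw [← hr]
  exact Nat.card_congr (MonoidHom.ofInjective hinj).toEquiv

/-- the complex representation of a coprime module -/
theorem exists_rep_ne {D : Type} {E : Type} [Group D] [Finite D] [AddCommGroup E] [Finite E]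
    [DistribMulAction D E] {q : ℕ} [hq : Fact q.Prime] (hqE : ∀ e : E, q • e = 0)
    (hcop : ¬ q ∣ Nat.card D) (hne : ∃ (g : D) (e : E), g • e ≠ e) :
    ∃ (n : ℕ) (ρ : Representation ℂ D (Fin n → ℂ)), Nat.card E = q ^ n ∧ ∃ g, ρ g ≠ 1 := by
  letI : Module (ZMod q) E := AddCommGroup.zmodModule (n := q) hqE
  let θ : D →* Module.End (ZMod q) E :=
    { toFun := fun g => AddMonoidHom.toZModLinearMap q (DistribMulAction.toAddMonoidEnd D E g)
      map_one' := by
        refine LinearMap.ext fun v => ?_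
        exact one_smul D v
      map_mul' := fun g g' => by
        refine LinearMap.ext fun v => ?_
        exact mul_smul g g' v }
  haveI : Module.Finite (ZMod q) E := Module.Finite.of_finite
  let n := Module.finrank (ZMod q) E
  have hcard : Nat.card E = q ^ n := by
    rw [Module.natCard_eq_pow_finrank (K := ZMod q), Nat.card_zmod]
  let b : Module.Basis (Fin n) (ZMod q) E := Module.finBasis (ZMod q) E
  let f : D →* Matrix (Fin n) (Fin n) (ZMod q) :=
    (LinearMap.toMatrixAlgEquiv b : Module.End (ZMod q) E ≃ₐ[ZMod q] _).toAlgHom.toRingHom.toMonoidHom.comp θ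
  have hc : (Nat.card D).Coprime q := ((Nat.Prime.coprime_iff_not_dvd hq.out).2 hcop).symm
  obtain ⟨τ, hτ⟩ := Cfsg.Agent.H348.Lift.exists_lift hc f.toHomUnits
  obtain ⟨ι, hι⟩ := Cfsg.Agent.H717.Rep.exists_padic_embedding q
  let G : D →* Matrix (Fin n) (Fin n) ℂ :=
    (ι.mapMatrix : Matrix (Fin n) (Fin n) ℤ_[q] →+* Matrix (Fin n) (Fin n) ℂ).toMonoidHom.comp
      ((Units.coeHom _).comp τ)
  refine ⟨n, (Matrix.toLinAlgEquiv' : Matrix (Fin n) (Fin n) ℂ ≃ₐ[ℂ] _).toAlgHom.toRingHom.toMonoidHom.comp G,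
    hcard, ?_⟩
  obtain ⟨g, e, hge⟩ := hne
  refine ⟨g, fun h1 => hge ?_⟩
  have h2 : G g = 1 := by
    apply (Matrix.toLinAlgEquiv' : Matrix (Fin n) (Fin n) ℂ ≃ₐ[ℂ] _).injective
    rw [map_one]
    exact h1
  have h3 : (τ g : Matrix (Fin n) (Fin n) ℤ_[q]) = 1 := by
    have h4 : ι.mapMatrix (τ g : Matrix (Fin n) (Fin n) ℤ_[q]) = ι.mapMatrix 1 := by rw [map_one]; exact h2
    exact Matrix.map_injective hι h4
  have h4 : f g = 1 := by
    have h5 := congrArg (fun x : GL (Fin n) (ZMod q) => (x : Matrix (Fin n) (Fin n) (ZMod q))) (hτ g)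
    have h6 : (τ g : Matrix (Fin n) (Fin n) ℤ_[q]).map (PadicInt.toZMod (p := q)) = f g := h5
    rw [← h6, h3, Matrix.map_one _ (by simp) (by simp)]
  have h5 : θ g = 1 := by
    apply (LinearMap.toMatrixAlgEquiv b : Module.End (ZMod q) E ≃ₐ[ZMod q] _).injective
    rw [map_one]
    exact h4
  exact LinearMap.congr_fun h5 e

omit [IsSimpleGroup S] in
theorem two_le_of_ne (hπ : IsCover π) {B : ℕ} (hB : MinDeg S B) {n : ℕ} (ρ : Representation ℂ L (Fin n → ℂ))
    (hne : ∃ g, ρ g ≠ 1) : B ≤ n := by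
  obtain ⟨d', τ, hτ, hd', hg⟩ := exists_irr_ne_one ρ hne
  rw [Module.finrank_fin_fun] at hd'
  have h2 : 2 ≤ d' := by
    by_contra hlt
    have hpos : 0 < d' := by
      haveI := hτ
      exact Cfsg.Agent.Blocks.CliffordCentral.pos_of_irreducible τ
    have h1 : d' = 1 := by omega
    subst h1
    obtain ⟨g, hg⟩ := hg
    exact hg (eq_one_of_perfect hπ.perf τ g)
  exact (hB L π hπ d' τ hτ h2).trans hd'

/-- `|V| = q ^ d`, `B ≤ d` -/
theorem Sit.exists_dim (h : Sit (V := V) p q N φ) (hπ : IsCover π) {B : ℕ} (hB : MinDeg S B) :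
    ∃ d : ℕ, Nat.card V = q ^ d ∧ B ≤ d := by
  have hq : Fact q.Prime := ⟨h.hq⟩
  have hne : ∃ (g : L) (v : V), g • v ≠ v := by
    by_contra hno
    push Not at hno
    -- `N = L`, so `L` is abelian and perfect, hence trivial
    have h1 : ∀ g : L, g ∈ N := fun g => (h.ker g).1 (hno g)
    apply h.Nne
    rw [eq_bot_iff]
    have h2 : commutator L ≤ ⊥ := by
      rw [commutator_def, Subgroup.commutator_le]
      intro x _ y _
      rw [Subgroup.mem_bot, commutatorElement_eq_one_iff_mul_comm]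
      exact (Subgroup.mem_center_iff.1 (h.cen (h1 y)) x)
    rw [hπ.perf] at h2
    exact le_trans le_top h2
  obtain ⟨n, ρ, hn, hρ⟩ := exists_rep_ne h.exp h.qL hne
  exact ⟨n, hn, two_le_of_ne hπ hB ρ hρ⟩

end

end Cfsg.Agent.H724.QA
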